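import Mathlib

/-!
# Field-valued points with closed image over an algebraically closed field (helper9)
-/

set_option autoImplicit false
universe u

open CategoryTheory AlgebraicGeometry

namespace Groth.Agent.Lib.Helper9.AbVarGal

variable {X Y : Scheme.{u}} {K : Type u} [Field K] [IsAlgClosed K]

theorem comp_pointOfClosedPoint_aux (f : X ⟶ Spec (.of K)) [LocallyOfFiniteType f]
    {Ω : Type u} [Field Ω] (z : X) (hz : IsClosed {z}) (φ : X.residueField z ⟶ .of Ω) :
    Spec.map φ ≫ X.fromSpecResidueField z =
      ((Spec.map φ ≫ X.fromSpecResidueField z) ≫ f) ≫ pointOfClosedPoint f z hz := by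
  have h2 : (Spec.map φ ≫ X.fromSpecResidueField z) ≫ f =
      Spec.map ((residueFieldIsoBase f z hz).inv ≫ φ) := by
    rw [Spec.map_comp, SpecMap_residueFieldIsoBase_inv, Category.assoc]
  rw [h2, pointOfClosedPoint, ← Category.assoc, ← Spec.map_comp, Iso.hom_inv_id_assoc]

/-- A field-valued point of a scheme locally of finite type over an algebraically closed field `K`
whose image is a closed point comes from a `K`-point. -/
theorem eq_comp_pointOfClosedPoint (f : X ⟶ Spec (.of K)) [LocallyOfFiniteType f]
    {Ω : Type u} [Field Ω] (d : Spec (.of Ω) ⟶ X)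
    (hz : IsClosed {d (IsLocalRing.closedPoint Ω)}) :
    d = (d ≫ f) ≫ pointOfClosedPoint f (d (IsLocalRing.closedPoint Ω)) hz := by
  have h1 := Scheme.descResidueField_stalkClosedPointTo_fromSpecResidueField Ω X d
  have h3 := comp_pointOfClosedPoint_aux f _ hz (X.descResidueField (Scheme.stalkClosedPointTo d))
  rwa [h1] at h3

/-- Points in the fibre of a locally quasi-finite morphism over a closed point are closed. -/
theorem isClosed_singleton_of_map_isClosed (g : X ⟶ Y) [LocallyQuasiFinite g] (x : X)
    (hy : IsClosed {g x}) : IsClosed ({x} : Set X) := by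
  have hdisc : DiscreteTopology ↥(g ⁻¹' {g x}) :=
    (g.isDiscrete_preimage_singleton (g x)).to_subtype
  have hcl : IsClosed (g ⁻¹' {g x}) := hy.preimage g.continuous
  have h1 : IsClosed ({⟨x, rfl⟩} : Set ↥(g ⁻¹' {g x})) := isClosed_discrete _
  have h2 := hcl.isClosedEmbedding_subtypeVal.isClosedMap _ h1
  simpa using h2

end Groth.Agent.Lib.Helper9.AbVarGal
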