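import Mathlib

/-!
# Translations of a group object by global points (helper9)
-/

set_option autoImplicit false

open CategoryTheory MonoidalCategory CartesianMonoidalCategory MonObj GrpObj

namespace Groth.Agent.Lib.Helper9.AbVarGal

universe v u
variable {C : Type u} [Category.{v} C] [CartesianMonoidalCategory C] [BraidedCategory C] (A : C)
  [GrpObj A]

/-- Translation by a global point. -/
def trans (a : 𝟙_ C ⟶ A) : A ⟶ A := 𝟙 A * (toUnit A ≫ a)

variable {A}

theorem comp_trans {X : C} (f : X ⟶ A) (a : 𝟙_ C ⟶ A) :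
    f ≫ trans A a = f * (toUnit X ≫ a) := by
  unfold trans
  rw [MonObj.comp_mul, Category.comp_id, ← Category.assoc, toUnit_unique (f ≫ toUnit A) (toUnit X)]

theorem trans_one : trans A (1 : 𝟙_ C ⟶ A) = 𝟙 A := by
  unfold trans
  rw [MonObj.comp_one, _root_.mul_one]

theorem trans_comp (a b : 𝟙_ C ⟶ A) : trans A a ≫ trans A b = trans A (a * b) := by
  rw [comp_trans]
  unfold trans
  rw [_root_.mul_assoc, MonObj.comp_mul]

theorem unit_comp_trans (a : 𝟙_ C ⟶ A) : η[A] ≫ trans A a = a := by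
  rw [comp_trans, toUnit_unique (toUnit (𝟙_ C)) (𝟙 _), Category.id_comp, MonObj.one_eq_one,
    _root_.one_mul]

theorem trans_comp_zpow [IsCommMonObj A] (a : 𝟙_ C ⟶ A) (n : ℤ) (ha : a ^ n = 1) :
    trans A a ≫ (𝟙 A) ^ n = (𝟙 A) ^ n := by
  rw [GrpObj.comp_zpow, Category.comp_id]
  unfold trans
  rw [mul_zpow, ← GrpObj.comp_zpow, ha, MonObj.comp_one, _root_.mul_one]

theorem exists_zpow_eq_one_of_comp_zpow_eq [IsCommMonObj A] {W : C} (s t : W ⟶ A) (n : ℤ)
    (h : s ≫ (𝟙 A) ^ n = t ≫ (𝟙 A) ^ n) : (s⁻¹ * t) ^ n = 1 := by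
  rw [GrpObj.comp_zpow, GrpObj.comp_zpow, Category.comp_id, Category.comp_id] at h
  rw [mul_zpow, inv_zpow, h, inv_mul_cancel]

theorem comp_trans_eq_of_eq {W : C} (s t : W ⟶ A) (a : 𝟙_ C ⟶ A)
    (h : s⁻¹ * t = toUnit W ≫ a) : s ≫ trans A a = t := by
  rw [comp_trans, ← h, mul_inv_cancel_left]

end Groth.Agent.Lib.Helper9.AbVarGal
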